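import Groth.Agent.Lib.UnitsRos.Affine
import Groth.Agent.Lib.NormalSmooth12.Basic
import Groth.Agent.Lib.Unip23.BaseChange
import Groth.Agent.Lib.CoalgH23.Filtration
import Mathlib.RingTheory.RingHom.Smooth
import Mathlib.RingTheory.Filtration

/-!
# Units of connected smooth affine groups, unipotent groups have no group-like elements
-/

set_option autoImplicit false
set_option linter.style.haveILetI false
universe u

open TensorProduct

namespace Groth.Agent.UnipConst20

variable {k : Type u} [Field k]

/-- A connected smooth affine scheme over a field is integral. -/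
theorem isDomain_of_connected (C : Type u) [CommRing C] [Nontrivial C] [Algebra k C]
    [Algebra.FiniteType k C] [Algebra.FormallySmooth k C]
    (hconn : ∀ e : C, IsIdempotentElem e → e = 0 ∨ e = 1) : IsDomain C := by
  haveI : IsNoetherianRing C := Algebra.FiniteType.isNoetherianRing k C
  haveI : Algebra.FinitePresentation k C := Algebra.FinitePresentation.of_finiteType.1 inferInstance
  haveI : Algebra.Smooth k C := ⟨inferInstance, inferInstance⟩
  exact NormalSmooth12.isDomain_of_isNormalRing
    (NormalSmooth12.isNormalRing_of_smooth_field (algebraMap k C) (RingHom.smooth_algebraMap.2 inferInstance)) hconn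

variable (C : Type u) [CommRing C] [HopfAlgebra k C] (K : Type u) [Field K] [Algebra k K]

/-- A connected noetherian domain with a rational point stays connected. -/
theorem idem_baseChange [IsNoetherianRing C] [IsDomain C] (e : K ⊗[k] C) (he : IsIdempotentElem e) :
    e = 0 ∨ e = 1 := by
  let εK : K ⊗[k] C →ₐ[K] K := Bialgebra.counitAlgHom K (K ⊗[k] C)
  suffices key : ∀ e : K ⊗[k] C, IsIdempotentElem e → εK e = 0 → e = 0 by
    rcases IsIdempotentElem.iff_eq_zero_or_one.1 (he.map εK) with h | h
    · exact Or.inl (key e he h)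
    · refine Or.inr (sub_eq_zero.1 (key (1 - e) he.one_sub (by rw [map_sub, map_one, h, sub_self]))).symm
  intro e he h0
  let m : Ideal C := RingHom.ker (Bialgebra.counitAlgHom k C)
  let ι : C →+* K ⊗[k] C := (Algebra.TensorProduct.includeRight (R := k) (A := K) (B := C)).toRingHom
  have hmem : ∀ x : K ⊗[k] C, x - algebraMap K _ (εK x) ∈ m.map ι := by
    intro x
    induction x with
    | zero => simp
    | tmul a c =>
      have h1 : εK (a ⊗ₜ[k] c) = a * algebraMap k K (Bialgebra.counitAlgHom k C c) := by
        simp [εK, Algebra.smul_def, mul_comm]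
      have h2 : a ⊗ₜ[k] c - algebraMap K (K ⊗[k] C) (εK (a ⊗ₜ[k] c)) =
          a ⊗ₜ[k] (1 : C) * ι (c - algebraMap k C (Bialgebra.counitAlgHom k C c)) := by
        show _ = a ⊗ₜ[k] (1 : C) * ((1 : K) ⊗ₜ[k] (c - algebraMap k C (Bialgebra.counitAlgHom k C c)))
        rw [Algebra.TensorProduct.tmul_mul_tmul, mul_one, one_mul, TensorProduct.tmul_sub,
          Algebra.algebraMap_eq_smul_one (A := C), TensorProduct.tmul_smul, TensorProduct.smul_tmul', h1,
          Algebra.TensorProduct.algebraMap_apply, Algebra.algebraMap_self, RingHom.id_apply,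
          Algebra.smul_def, mul_comm a]
      rw [h2]
      refine Ideal.mul_mem_left _ _ (Ideal.mem_map_of_mem ι ?_)
      show Bialgebra.counitAlgHom k C (c - algebraMap k C (Bialgebra.counitAlgHom k C c)) = 0
      rw [map_sub, AlgHom.commutes, Algebra.algebraMap_self, RingHom.id_apply, sub_self]
    | add x y hx hy =>
      rw [map_add, map_add, add_sub_add_comm]
      exact add_mem hx hy
  have hpow : ∀ n : ℕ, e ∈ (m ^ n).map ι := by
    intro n
    induction n with
    | zero => rw [pow_zero, Ideal.one_eq_top, Ideal.map_top]; trivial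
    | succ n ih =>
      rw [pow_succ, Ideal.map_mul, ← he.eq]
      refine Ideal.mul_mem_mul ih ?_
      have := hmem e
      rwa [h0, map_zero, sub_zero] at this
  refine UnitsRos.eq_zero_of_contr fun l => ?_
  have hc : ∀ n : ℕ, UnitsRos.contr l e ∈ m ^ n := by
    intro n
    suffices ∀ x ∈ (m ^ n).map ι, ∀ y : K ⊗[k] C, UnitsRos.contr (B := C) l (y * x) ∈ m ^ n by
      simpa using this e (hpow n) 1
    intro x hx
    refine Submodule.span_induction ?_ ?_ ?_ ?_ hx
    · rintro _ ⟨c, hc, rfl⟩ y
      induction y with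
      | zero => simp
      | tmul a d =>
        show UnitsRos.contr l (a ⊗ₜ[k] d * (1 : K) ⊗ₜ[k] c) ∈ m ^ n
        rw [Algebra.TensorProduct.tmul_mul_tmul, mul_one, UnitsRos.contr_tmul, Algebra.smul_def]
        exact Ideal.mul_mem_left _ _ (Ideal.mul_mem_left _ _ hc)
      | add p q hp hq => rw [add_mul, map_add]; exact add_mem hp hq
    · simp
    · intro x z _ _ hx hz y
      rw [mul_add, map_add]
      exact add_mem (hx y) (hz y)
    · intro z x _ hx y
      rw [smul_eq_mul, ← mul_assoc]
      exact hx _
  have hne : m ≠ ⊤ := fun h => by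
    have : (1 : C) ∈ m := h ▸ trivial
    simp [m, RingHom.mem_ker] at this
  exact (Submodule.mem_bot C).1 ((Ideal.iInf_pow_eq_bot_of_isDomain m hne).le (Submodule.mem_iInf _ |>.2 hc))

/-- A unit with counit one on an integral affine group is group-like. -/
theorem isGroupLikeElem_of_isUnit [IsAlgClosed K] {D : Type u} [CommRing D] [IsDomain D] [HopfAlgebra K D]
    [Algebra.FiniteType K D] {u : D} (hu : IsUnit u) (he : Bialgebra.counitAlgHom K D u = 1) :
    IsGroupLikeElem K u := by
  obtain ⟨a, b, -, -, hab⟩ := UnitsRos.exists_eq_tmul (hu.map (Bialgebra.comulAlgHom K D))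
  have h' : CoalgebraStruct.comul (R := K) u = a ⊗ₜ[K] b := hab
  have he' : CoalgebraStruct.counit (R := K) u = 1 := he
  set x : K := CoalgebraStruct.counit (R := K) a
  set y : K := CoalgebraStruct.counit (R := K) b
  have h1 : x • b = u := by
    have := Coalgebra.rTensor_counit_comul (R := K) u
    rw [h', LinearMap.rTensor_tmul] at this
    simpa [x] using congrArg (TensorProduct.lid K D) this
  have h2 : y • a = u := by
    have := Coalgebra.lTensor_counit_comul (R := K) u
    rw [h', LinearMap.lTensor_tmul] at this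
    simpa [y] using congrArg (TensorProduct.rid K D) this
  have h3 : x * y = 1 := by
    have := congrArg (CoalgebraStruct.counit (R := K)) h1
    rwa [map_smul, he', smul_eq_mul] at this
  refine ⟨he', ?_⟩
  rw [h']
  calc a ⊗ₜ[K] b = (x * y) • (a ⊗ₜ[K] b) := by rw [h3, one_smul]
    _ = (y • a) ⊗ₜ[K] (x • b) := by rw [TensorProduct.smul_tmul_smul, mul_comm]
    _ = u ⊗ₜ[K] u := by rw [h1, h2]

/-- A unipotent group has no non-trivial group-like element. -/
theorem eq_one_of_isGroupLikeElem {D : Type u} [CommRing D] [HopfAlgebra K D]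
    (hD : HopfRep.IsUnipotent K D) {g : D} (hg : IsGroupLikeElem K g) : g = 1 := by
  by_contra hne
  obtain ⟨φ, hφ⟩ : ∃ φ : D →ₗ[K] K, φ (g - 1) = 1 := by
    obtain ⟨φ₀, hφ₀, -⟩ := Submodule.exists_le_ker_of_notMem
      (show g - 1 ∉ (⊥ : Submodule K D) from fun h => hne (sub_eq_zero.1 ((Submodule.mem_bot K).1 h)))
    exact ⟨(φ₀ (g - 1))⁻¹ • φ₀, by rw [LinearMap.smul_apply, smul_eq_mul, inv_mul_cancel₀ hφ₀]⟩
  have key : ∀ n, g ∈ CoalgH23.fixFil K D D n → False := by
    intro n
    induction n with
    | zero =>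
      intro h
      have h1 := hg.counit_eq_one
      rw [(Submodule.mem_bot K).1 h, map_zero] at h1
      exact zero_ne_one h1
    | succ n ih =>
      intro h
      refine ih ?_
      have h2 := CoalgH23.slice_mem_of_mem_range φ _ (CoalgH23.mem_fixFil_succ.1 h)
      rw [show HopfRep.Comod.coact (k := K) (A := D) g = g ⊗ₜ[K] g from hg.comul_eq_tmul_self,
        ← TensorProduct.tmul_sub, CoalgH23.slice_tmul, hφ, one_smul] at h2
      exact h2
  obtain ⟨n, hn⟩ := Unip23.exists_mem_fixFil hD g
  exact key n hn

/-- On a smooth connected unipotent group over an algebraically closed extension, units are constant. -/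
theorem unit_eq_const [IsAlgClosed K] [Algebra.FiniteType k C] [Algebra.FormallySmooth k C]
    (hconn : ∀ e : C, IsIdempotentElem e → e = 0 ∨ e = 1) (hU : HopfRep.IsUnipotent k C)
    {u : K ⊗[k] C} (hu : IsUnit u) :
    u = algebraMap K _ (Bialgebra.counitAlgHom K (K ⊗[k] C) u) := by
  haveI : Nontrivial C := (Bialgebra.counitAlgHom k C).toRingHom.domain_nontrivial
  haveI := isDomain_of_connected (k := k) C hconn
  haveI : IsNoetherianRing C := Algebra.FiniteType.isNoetherianRing k C
  haveI : Nontrivial (K ⊗[k] C) := (Bialgebra.counitAlgHom K (K ⊗[k] C)).toRingHom.domain_nontrivial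
  haveI : IsDomain (K ⊗[k] C) := isDomain_of_connected (k := K) _ (idem_baseChange C K)
  have hU' : HopfRep.IsUnipotent K (K ⊗[k] C) := by
    refine Unip23.isUnipotent_baseChange fun x => ?_
    obtain ⟨n, hn⟩ := Unip23.exists_mem_fixFil hU x
    exact ⟨n, (Unip23.genFil_eq_fixFil (k := k) (A := C) n).symm ▸ hn⟩
  set c := Bialgebra.counitAlgHom K (K ⊗[k] C) u with hc
  have hc0 : c ≠ 0 := (hu.map _).ne_zero
  have hg := isGroupLikeElem_of_isUnit (u := algebraMap K (K ⊗[k] C) c⁻¹ * u) K
    (((isUnit_iff_ne_zero.2 (inv_ne_zero hc0)).map _).mul hu)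
    (by rw [map_mul, AlgHom.commutes, Algebra.algebraMap_self, RingHom.id_apply, ← hc, inv_mul_cancel₀ hc0])
  have := congrArg (algebraMap K (K ⊗[k] C) c * ·) (eq_one_of_isGroupLikeElem K hU' hg)
  simp only [mul_one] at this
  rwa [← mul_assoc, ← map_mul, mul_inv_cancel₀ hc0, map_one, one_mul] at this

end Groth.Agent.UnipConst20
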